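import Cfsg.Prelude.Def_ChevStructure

/-!
# Automorphisms of Chevalley matrix groups from signed symmetries of the tables, and field maps

A `TableSym` is a permutation of the roots, one of the fundamental coroots, and signs; when the
(decidable) condition `TableSym.Ok` holds, conjugation by the signed permutation matrix sends
`x_r(t)` to `x_{σ r}(ε_r t)`.
-/

namespace CfsgLib.Twisted

open Cfsg.Lie Matrix

/-! ### Entrywise field maps -/

theorem xMat_map {D : ChevalleyDatum} {F K : Type*} [Field F] [Field K] (f : F →+* K)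
    (r : Fin D.nroots) (t : F) : (D.xMat F r t).map f = D.xMat K r (f t) := by
  ext a b
  simp only [ChevalleyDatum.xMat, Matrix.map_apply, Matrix.of_apply]
  rcases b with i | s <;> rcases a with i' | u <;> simp only <;>
    (try split_ifs) <;>
    simp [map_list_sum, List.map_map, Function.comp_def]

theorem x_map {D : ChevalleyDatum} {F K : Type*} [Field F] [Field K] (f : F →+* K)
    (r : ℕ) (t : F) : (D.x F r t).map f = D.x K r (f t) := by
  unfold ChevalleyDatum.x
  split
  · exact xMat_map f _ t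
  · exact Matrix.map_one f (map_zero f) (map_one f)

section aut

variable (D : ChevalleyDatum) {F : Type*} [Field F]

/-- A multiplicative automorphism of the matrices permuting the root elements. -/
structure PermutesRootElements (Ψ : Matrix D.Idx D.Idx F ≃* Matrix D.Idx D.Idx F) (σ : ℕ → ℕ)
    (φ : ℕ → F → F) : Prop where
  lt : ∀ r < D.nroots, σ r < D.nroots
  surj : ∀ u < D.nroots, ∃ r < D.nroots, σ r = u
  param : ∀ r < D.nroots, Function.Surjective (φ r)
  map_x : ∀ r < D.nroots, ∀ t : F, Ψ (D.x F r t) = D.x F (σ r) (φ r t)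

variable {D} {Ψ : Matrix D.Idx D.Idx F ≃* Matrix D.Idx D.Idx F} {σ : ℕ → ℕ} {φ : ℕ → F → F}
  (h : PermutesRootElements D Ψ σ φ)
include h

theorem PermutesRootElements.map_group :
    (D.group F).map (Units.mapEquiv Ψ).toMonoidHom = D.group F := by
  apply le_antisymm
  · rw [ChevalleyDatum.group, MonoidHom.map_closure]
    refine Subgroup.closure_mono ?_
    rintro _ ⟨g, ⟨r, t, hg⟩, rfl⟩
    refine ⟨⟨σ r, h.lt r r.2⟩, φ r t, ?_⟩
    show Ψ (g : Matrix D.Idx D.Idx F) = _
    rw [hg, show D.xMat F r t = D.x F r t by rw [ChevalleyDatum.x, dif_pos r.2],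
      h.map_x r r.2, ChevalleyDatum.x, dif_pos (h.lt r r.2)]
  · refine (Subgroup.closure_le _).mpr ?_
    rintro g ⟨u, t, hg⟩
    obtain ⟨r, hr, hru⟩ := h.surj u u.2
    obtain ⟨t₀, rfl⟩ := h.param r hr t
    refine ⟨(Units.mapEquiv Ψ).symm g, Subgroup.subset_closure ⟨⟨r, hr⟩, t₀, ?_⟩,
      MulEquiv.apply_symm_apply _ g⟩
    show Ψ.symm (g : Matrix D.Idx D.Idx F) = _
    rw [MulEquiv.symm_apply_eq, hg, show D.xMat F ⟨r, hr⟩ t₀ = D.x F r t₀ by
      rw [ChevalleyDatum.x, dif_pos hr], h.map_x r hr, hru, ChevalleyDatum.x, dif_pos u.2]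

/-- The automorphism of the Chevalley group induced by such an automorphism. -/
def PermutesRootElements.aut : ↥(D.group F) ≃* ↥(D.group F) :=
  ((Units.mapEquiv Ψ).subgroupMap (D.group F)).trans (MulEquiv.subgroupCongr h.map_group)

theorem PermutesRootElements.coe_aut (g : ↥(D.group F)) :
    ((h.aut g : GL D.Idx F) : Matrix D.Idx D.Idx F) = Ψ ((g : GL D.Idx F) : Matrix D.Idx D.Idx F) :=
  rfl

theorem PermutesRootElements.aut_x (g : ↥(D.group F)) {r : ℕ} {t : F} (hr : r < D.nroots)
    (hg : ((g : GL D.Idx F) : Matrix D.Idx D.Idx F) = D.x F r t) :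
    ((h.aut g : GL D.Idx F) : Matrix D.Idx D.Idx F) = D.x F (σ r) (φ r t) := by
  rw [h.coe_aut, hg, h.map_x r hr]

end aut

theorem permutes_fieldMap (D : ChevalleyDatum) {F : Type*} [Field F] (f : F ≃+* F) :
    PermutesRootElements D f.mapMatrix.toMulEquiv id (fun _ => f) where
  lt _ h := h
  surj u hu := ⟨u, hu, rfl⟩
  param _ _ := f.surjective
  map_x r _ t := by
    show (D.x F r t).map f.toRingHom = _
    rw [x_map]
    rfl

/-! ### Signed symmetries of the tables -/

/-- A signed permutation of the coordinates: roots `σ` (inverse `σinv`) with signs `eps`,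
fundamental coroots `π` (inverse `πinv`) with the common sign `delta`. -/
structure TableSym where
  σ : List ℕ
  σinv : List ℕ
  eps : List ℤ
  π : List ℕ
  πinv : List ℕ
  delta : ℤ

namespace TableSym

/-- The image of a root. -/
def σf (S : TableSym) (r : ℕ) : ℕ := S.σ.getD r 0

/-- The image of a fundamental coroot. -/
def πf (S : TableSym) (i : ℕ) : ℕ := S.π.getD i 0

/-- The sign on a root vector. -/
def sgn (S : TableSym) (r : ℕ) : ℤ := S.eps.getD r 0

/-- All chain coefficients at `r`, as `(s, u, k, M)`. -/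
def chainQuads (D : ChevalleyDatum) (r : ℕ) : List (ℕ × ℕ × ℕ × ℤ) :=
  (D.chain.getD r #[]).toList.flatMap fun e =>
    e.2.toList.zipIdx.map fun q => (e.1, q.1.1, q.2 + 1, q.1.2)

/-- The symmetry is one of the tables. -/
def okB (S : TableSym) (D : ChevalleyDatum) : Bool :=
  decide (S.delta * S.delta = 1) &&
  (List.range D.rank).all (fun i => decide (S.πf i < D.rank) &&
    decide (S.πinv.getD (S.πf i) 0 = i) && decide (S.πinv.getD i 0 < D.rank) &&
    decide (S.πf (S.πinv.getD i 0) = i)) &&
  (List.range D.nroots).all fun r =>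
    decide (S.σf r < D.nroots) && decide (S.σinv.getD (S.σf r) 0 = r) &&
    decide (S.σinv.getD r 0 < D.nroots) && decide (S.σf (S.σinv.getD r 0) = r) &&
    decide (S.sgn r * S.sgn r = 1) &&
    decide (D.negIdx.getD r 0 < D.nroots) &&
    decide (S.σf (D.negIdx.getD r 0) = D.negIdx.getD (S.σf r) 0) &&
    decide (S.sgn (D.negIdx.getD r 0) = S.sgn r) &&
    (List.range D.rank).all (fun i =>
      decide ((D.coroot.getD (S.σf r) #[]).getD (S.πf i) 0 =
          S.delta * (D.coroot.getD r #[]).getD i 0) &&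
        decide ((D.cartanSR.getD (S.πf i) #[]).getD (S.σf r) 0 =
          S.delta * (D.cartanSR.getD i #[]).getD r 0)) &&
    (chainQuads D r).all (fun q => decide (q.1 < D.nroots) && decide (q.2.1 < D.nroots)) &&
    (chainQuads D (S.σf r)).all (fun q => decide (q.1 < D.nroots) && decide (q.2.1 < D.nroots)) &&
    ((chainQuads D r).map fun q => (S.σf q.1, S.σf q.2.1, q.2.2.1,
      q.2.2.2 * (S.sgn r ^ q.2.2.1 * S.sgn q.1 * S.sgn q.2.1))).isPerm
        (chainQuads D (S.σf r))

variable {D : ChevalleyDatum} {S : TableSym}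

theorem chainCoeff_eq_quads (r s u : ℕ) :
    D.chainCoeff r s u = ((chainQuads D r).filter fun q => decide (q.1 = s) && decide (q.2.1 = u)).map
      fun q => (q.2.2.1, q.2.2.2) := by
  unfold ChevalleyDatum.chainCoeff chainQuads
  induction (D.chain.getD r #[]).toList with
  | nil => rfl
  | cons e es ih =>
    simp only [List.flatMap_cons, List.filter_append, List.map_append, ← ih, List.filter_map]
    by_cases he : e.1 = s <;> simp [he, List.map_map, Function.comp_def]

/-- The conditions of `okB`. -/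
structure Ok (S : TableSym) (D : ChevalleyDatum) : Prop where
  check : S.okB D = true

variable (h : S.Ok D)
include h

theorem Ok.root {r : ℕ} (hr : r < D.nroots) :
    S.σf r < D.nroots ∧ S.σinv.getD (S.σf r) 0 = r ∧ S.σinv.getD r 0 < D.nroots ∧
    S.σf (S.σinv.getD r 0) = r ∧ S.sgn r * S.sgn r = 1 ∧ D.negIdx.getD r 0 < D.nroots ∧
    S.σf (D.negIdx.getD r 0) = D.negIdx.getD (S.σf r) 0 ∧
    S.sgn (D.negIdx.getD r 0) = S.sgn r ∧
    (∀ i < D.rank, (D.coroot.getD (S.σf r) #[]).getD (S.πf i) 0 =
          S.delta * (D.coroot.getD r #[]).getD i 0 ∧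
        (D.cartanSR.getD (S.πf i) #[]).getD (S.σf r) 0 =
          S.delta * (D.cartanSR.getD i #[]).getD r 0) ∧
    (∀ q ∈ chainQuads D r, q.1 < D.nroots ∧ q.2.1 < D.nroots) ∧
    (∀ q ∈ chainQuads D (S.σf r), q.1 < D.nroots ∧ q.2.1 < D.nroots) ∧
    ((chainQuads D r).map fun q => (S.σf q.1, S.σf q.2.1, q.2.2.1,
      q.2.2.2 * (S.sgn r ^ q.2.2.1 * S.sgn q.1 * S.sgn q.2.1))).Perm
        (chainQuads D (S.σf r)) := by
  have hc := h.check
  simp only [okB, Bool.and_eq_true, decide_eq_true_eq, List.all_eq_true, List.mem_range,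
    List.isPerm_iff, and_assoc] at hc
  exact hc.2.2 r hr

theorem Ok.node {i : ℕ} (hi : i < D.rank) :
    S.πf i < D.rank ∧ S.πinv.getD (S.πf i) 0 = i ∧ S.πinv.getD i 0 < D.rank ∧
    S.πf (S.πinv.getD i 0) = i := by
  have hc := h.check
  simp only [okB, Bool.and_eq_true, decide_eq_true_eq, List.all_eq_true, List.mem_range,
    and_assoc] at hc
  exact hc.2.1 i hi

theorem Ok.delta_sq : S.delta * S.delta = 1 := by
  have hc := h.check
  simp only [okB, Bool.and_eq_true, decide_eq_true_eq, and_assoc] at hc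
  exact hc.1

/-- The permutation of the coordinates. -/
def Ok.idxEquiv : D.Idx ≃ D.Idx :=
  Equiv.sumCongr
    { toFun := fun i => ⟨S.πf i, (h.node i.2).1⟩
      invFun := fun i => ⟨S.πinv.getD i 0, (h.node i.2).2.2.1⟩
      left_inv := fun i => Fin.ext (h.node i.2).2.1
      right_inv := fun i => Fin.ext (h.node i.2).2.2.2 }
    { toFun := fun r => ⟨S.σf r, (h.root r.2).1⟩
      invFun := fun r => ⟨S.σinv.getD r 0, (h.root r.2).2.2.1⟩
      left_inv := fun r => Fin.ext (h.root r.2).2.1
      right_inv := fun r => Fin.ext (h.root r.2).2.2.2.1 }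

omit h in
/-- The signs of the coordinates. -/
def idxSign (S : TableSym) (F : Type*) [Field F] : D.Idx → F :=
  Sum.elim (fun _ => (S.delta : F)) (fun r => (S.sgn r : F))

theorem Ok.idxSign_mul_self (F : Type*) [Field F] (a : D.Idx) :
    (idxSign S F a : F) * idxSign S F a = 1 := by
  rcases a with i | r
  · show (S.delta : F) * S.delta = 1
    rw [← Int.cast_mul, h.delta_sq, Int.cast_one]
  · show (S.sgn r : F) * S.sgn r = 1
    rw [← Int.cast_mul, (h.root r.2).2.2.2.2.1, Int.cast_one]

/-- Conjugation by the signed permutation matrix. -/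
def Ok.conj (F : Type*) [Field F] : Matrix D.Idx D.Idx F ≃* Matrix D.Idx D.Idx F where
  toFun M := Matrix.of fun a b => idxSign S F (h.idxEquiv.symm a) *
    idxSign S F (h.idxEquiv.symm b) * M (h.idxEquiv.symm a) (h.idxEquiv.symm b)
  invFun M := Matrix.of fun a b => idxSign S F a * idxSign S F b * M (h.idxEquiv a) (h.idxEquiv b)
  left_inv M := by
    ext a b
    simp only [Matrix.of_apply, Equiv.symm_apply_apply]
    rw [show ∀ x y m : F, x * y * (x * y * m) = x * x * (y * y) * m by intros; ring,
      h.idxSign_mul_self, h.idxSign_mul_self, one_mul, one_mul]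
  right_inv M := by
    ext a b
    simp only [Matrix.of_apply, Equiv.apply_symm_apply]
    rw [show ∀ x y m : F, x * y * (x * y * m) = x * x * (y * y) * m by intros; ring,
      h.idxSign_mul_self, h.idxSign_mul_self, one_mul, one_mul]
  map_mul' M N := by
    ext a c
    simp only [Matrix.of_apply, Matrix.mul_apply, Finset.mul_sum]
    conv_rhs => rw [← h.idxEquiv.sum_comp]
    simp only [Equiv.symm_apply_apply]
    refine Finset.sum_congr rfl fun b _ => ?_
    rw [show ∀ x y z m n : F, x * y * m * (y * z * n) = y * y * (x * z * (m * n)) by intros; ring,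
      h.idxSign_mul_self, one_mul]

theorem Ok.conj_apply (F : Type*) [Field F] (M : Matrix D.Idx D.Idx F) (a b : D.Idx) :
    h.conj F M (h.idxEquiv a) (h.idxEquiv b) = idxSign S F a * idxSign S F b * M a b := by
  show idxSign S F _ * idxSign S F _ * M _ _ = _
  simp only [Equiv.symm_apply_apply]

theorem Ok.idxEquiv_inl (i : Fin D.rank) :
    h.idxEquiv (Sum.inl i) = Sum.inl ⟨S.πf i, (h.node i.2).1⟩ := rfl

theorem Ok.idxEquiv_inr (r : Fin D.nroots) :
    h.idxEquiv (Sum.inr r) = Sum.inr ⟨S.σf r, (h.root r.2).1⟩ := rfl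

theorem Ok.σf_inj {r s : ℕ} (hr : r < D.nroots) (hs : s < D.nroots) (he : S.σf r = S.σf s) :
    r = s := by
  rw [← (h.root hr).2.1, he, (h.root hs).2.1]

theorem Ok.πf_inj {i j : ℕ} (hi : i < D.rank) (hj : j < D.rank) (he : S.πf i = S.πf j) :
    i = j := by
  rw [← (h.node hi).2.1, he, (h.node hj).2.1]

/-- Conjugation by the signed permutation sends `x_r(t)` to `x_{σ r}(ε_r t)`. -/
theorem Ok.conj_x (F : Type*) [Field F] {r : ℕ} (hr : r < D.nroots) (t : F) :
    h.conj F (D.x F r t) = D.x F (S.σf r) ((S.sgn r : F) * t) := by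
  obtain ⟨hσ, -, -, -, hεr, hnr, hσn, hεn, hcc, hq, hq', hperm⟩ := h.root hr
  have hε2 : (S.sgn r : F) * S.sgn r = 1 := by rw [← Int.cast_mul, hεr, Int.cast_one]
  have hδ2 : (S.delta : F) * S.delta = 1 := by rw [← Int.cast_mul, h.delta_sq, Int.cast_one]
  ext a' b'
  obtain ⟨a, rfl⟩ := h.idxEquiv.surjective a'
  obtain ⟨b, rfl⟩ := h.idxEquiv.surjective b'
  rw [h.conj_apply, ChevalleyDatum.x, dif_pos hr, ChevalleyDatum.x, dif_pos hσ]
  simp only [ChevalleyDatum.xMat, Matrix.of_apply]
  rcases b with i | s <;> rcases a with i' | u <;>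
    simp only [Ok.idxEquiv_inl, Ok.idxEquiv_inr, idxSign, Sum.elim_inl, Sum.elim_inr, Fin.ext_iff]
  · by_cases he : (i' : ℕ) = i
    · simp [he, hδ2]
    · have : S.πf i' ≠ S.πf i := fun hh => he (h.πf_inj i'.2 i.2 hh)
      simp [he, this]
  · by_cases he : (u : ℕ) = r
    · rw [if_pos he, if_pos (congrArg S.σf he), (hcc i i.2).2, he]
      push_cast
      ring
    · have : S.σf u ≠ S.σf r := fun hh => he (h.σf_inj u.2 hr hh)
      simp [he, this]
  · by_cases hs : (s : ℕ) = r
    · simp [hs]
    · have hs' : S.σf s ≠ S.σf r := fun hh => hs (h.σf_inj s.2 hr hh)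
      rw [if_neg hs, if_neg hs']
      by_cases hn : (s : ℕ) = D.negIdx.getD r 0
      · rw [if_pos hn, if_pos (show S.σf s = D.negIdx.getD (S.σf r) 0 by rw [hn, hσn]), (hcc i' i'.2).1, hn, hεn]
        push_cast
        ring
      · have hn' : S.σf s ≠ D.negIdx.getD (S.σf r) 0 := fun hh =>
          hn (h.σf_inj s.2 hnr (by rw [hh, hσn]))
        rw [if_neg hn, if_neg hn', mul_zero]
  · have hsu : ((u : ℕ) = s) ↔ S.σf u = S.σf s :=
      ⟨fun e => by rw [e], fun e => h.σf_inj u.2 s.2 e⟩
    have hsu2 : ∀ x y : ℕ, x = y → (S.sgn x : F) * S.sgn y = if x < D.nroots then 1 else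
        (S.sgn x : F) * S.sgn y := by
      rintro x _ rfl
      split
      · next hx => rw [← Int.cast_mul, (h.root hx).2.2.2.2.1, Int.cast_one]
      · rfl
    by_cases hs : (s : ℕ) = r
    · rw [if_pos hs, if_pos (congrArg S.σf hs)]
      by_cases he : (u : ℕ) = r
      · rw [if_pos he, if_pos (congrArg S.σf he), mul_one, hs, he, hε2]
      · have : S.σf u ≠ S.σf r := fun hh => he (h.σf_inj u.2 hr hh)
        simp [he, this]
    · have hs' : S.σf s ≠ S.σf r := fun hh => hs (h.σf_inj s.2 hr hh)
      rw [if_neg hs, if_neg hs']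
      by_cases hn : (s : ℕ) = D.negIdx.getD r 0
      · rw [if_pos hn, if_pos (show S.σf s = D.negIdx.getD (S.σf r) 0 by rw [hn, hσn])]
        by_cases he : (u : ℕ) = s
        · rw [if_pos he, if_pos (hsu.mp he), he, hsu2 _ _ rfl, if_pos s.2, mul_one]
        · rw [if_neg he, if_neg (fun e => he (hsu.mpr e))]
          by_cases hur : (u : ℕ) = r
          · rw [if_pos hur, if_pos (congrArg S.σf hur), hur, hn, hεn, hε2, one_mul, mul_pow,
              sq (S.sgn r : F), hε2, one_mul]
          · have : S.σf u ≠ S.σf r := fun hh => hur (h.σf_inj u.2 hr hh)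
            simp [hur, this]
      · have hn' : S.σf s ≠ D.negIdx.getD (S.σf r) 0 := fun hh =>
          hn (h.σf_inj s.2 hnr (by rw [hh, hσn]))
        rw [if_neg hn, if_neg hn', mul_add]
        congr 1
        · by_cases he : (u : ℕ) = s
          · rw [if_pos he, if_pos (hsu.mp he), he, hsu2 _ _ rfl, if_pos s.2, mul_one]
          · rw [if_neg he, if_neg (fun e => he (hsu.mpr e)), mul_zero]
        · rw [chainCoeff_eq_quads, chainCoeff_eq_quads, List.map_map, List.map_map,
            ← List.sum_map_mul_left]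
          rw [List.Perm.sum_eq ((hperm.symm.filter _).map _), List.filter_map, List.map_map]
          have hfilter : (chainQuads D r).filter (fun q => decide (S.σf q.1 = S.σf s) &&
              decide (S.σf q.2.1 = S.σf u)) =
              (chainQuads D r).filter (fun q => decide (q.1 = (s : ℕ)) && decide (q.2.1 = (u : ℕ))) := by
            refine List.filter_congr fun q hmem => ?_
            have e1 : S.σf q.1 = S.σf s ↔ q.1 = (s : ℕ) :=
              ⟨fun e => h.σf_inj (hq q hmem).1 s.2 e, fun e => by rw [e]⟩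
            have e2 : S.σf q.2.1 = S.σf u ↔ q.2.1 = (u : ℕ) :=
              ⟨fun e => h.σf_inj (hq q hmem).2 u.2 e, fun e => by rw [e]⟩
            simp only [decide_eq_decide.mpr e1, decide_eq_decide.mpr e2]
          simp only [Function.comp_def] at *
          rw [hfilter]
          refine congrArg List.sum (List.map_congr_left fun q hmem => ?_)
          simp only [List.mem_filter, Bool.and_eq_true, decide_eq_true_eq] at hmem
          rw [hmem.2.1, hmem.2.2, mul_pow, Int.cast_mul, Int.cast_mul, Int.cast_mul, Int.cast_pow]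
          rw [show ∀ a b c m p : F, m * (p * a * b) * (p * c) = p * p * (b * a * (m * c)) by
            intros; ring, ← mul_pow, hε2, one_pow, one_mul]

/-- A signed symmetry permutes the root elements. -/
theorem Ok.permutes (F : Type*) [Field F] :
    PermutesRootElements D (h.conj F) S.σf (fun r t => (S.sgn r : F) * t) where
  lt r hr := (h.root hr).1
  surj u hu := ⟨S.σinv.getD u 0, (h.root hu).2.2.1, (h.root hu).2.2.2.1⟩
  param r hr t := by
    refine ⟨(S.sgn r : F) * t, ?_⟩
    show (S.sgn r : F) * ((S.sgn r : F) * t) = t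
    rw [← mul_assoc, ← Int.cast_mul, (h.root hr).2.2.2.2.1, Int.cast_one, one_mul]
  map_x r hr t := h.conj_x F hr t

end TableSym

end CfsgLib.Twisted
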