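import Cfsg.Agent.Twisted.TableAut
import Cfsg.Prelude.Def_ChevG2
import Cfsg.Prelude.Def_ChevD4
import Cfsg.Prelude.Def_ChevF4
import Cfsg.Prelude.Def_ChevE6

/-! The symmetries `e_r ↦ -e_{-r}`, `h ↦ -h` (generated data, checked by the kernel). -/

namespace CfsgLib.Twisted

set_option maxHeartbeats 2000000

/-- A signed symmetry of `chevG2`. -/
def negG2 : TableSym where
  σ := [11, 10, 9, 8, 7, 6, 5, 4, 3, 2, 1, 0]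
  σinv := [11, 10, 9, 8, 7, 6, 5, 4, 3, 2, 1, 0]
  eps := [-1, -1, -1, -1, -1, -1, -1, -1, -1, -1, -1, -1]
  π := [0, 1]
  πinv := [0, 1]
  delta := -1

theorem negG2_ok : negG2.Ok Cfsg.Lie.chevG2 := ⟨by decide +kernel⟩

/-- A signed symmetry of `chevD4`. -/
def negD4 : TableSym where
  σ := [23, 22, 21, 20, 19, 18, 17, 16, 15, 14, 13, 12, 11, 10, 9, 8, 7, 6, 5, 4, 3, 2, 1, 0]
  σinv := [23, 22, 21, 20, 19, 18, 17, 16, 15, 14, 13, 12, 11, 10, 9, 8, 7, 6, 5, 4, 3, 2, 1, 0]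
  eps := [-1, -1, -1, -1, -1, -1, -1, -1, -1, -1, -1, -1, -1, -1, -1, -1, -1, -1, -1, -1, -1, -1, -1, -1]
  π := [0, 1, 2, 3]
  πinv := [0, 1, 2, 3]
  delta := -1

theorem negD4_ok : negD4.Ok Cfsg.Lie.chevD4 := ⟨by decide +kernel⟩

/-- A signed symmetry of `chevF4`. -/
def negF4 : TableSym where
  σ := [47, 46, 45, 44, 43, 42, 41, 40, 39, 38, 37, 36, 35, 34, 33, 32, 31, 30, 29, 28, 27, 26, 25, 24, 23, 22, 21, 20, 19, 18, 17, 16, 15, 14, 13, 12, 11, 10, 9, 8, 7, 6, 5, 4, 3, 2, 1, 0]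
  σinv := [47, 46, 45, 44, 43, 42, 41, 40, 39, 38, 37, 36, 35, 34, 33, 32, 31, 30, 29, 28, 27, 26, 25, 24, 23, 22, 21, 20, 19, 18, 17, 16, 15, 14, 13, 12, 11, 10, 9, 8, 7, 6, 5, 4, 3, 2, 1, 0]
  eps := [-1, -1, -1, -1, -1, -1, -1, -1, -1, -1, -1, -1, -1, -1, -1, -1, -1, -1, -1, -1, -1, -1, -1, -1, -1, -1, -1, -1, -1, -1, -1, -1, -1, -1, -1, -1, -1, -1, -1, -1, -1, -1, -1, -1, -1, -1, -1, -1]
  π := [0, 1, 2, 3]
  πinv := [0, 1, 2, 3]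
  delta := -1

theorem negF4_ok : negF4.Ok Cfsg.Lie.chevF4 := ⟨by decide +kernel⟩

/-- A signed symmetry of `chevE6`. -/
def negE6 : TableSym where
  σ := [71, 70, 69, 68, 67, 66, 65, 64, 63, 62, 61, 60, 59, 58, 57, 56, 55, 54, 53, 52, 51, 50, 49, 48, 47, 46, 45, 44, 43, 42, 41, 40, 39, 38, 37, 36, 35, 34, 33, 32, 31, 30, 29, 28, 27, 26, 25, 24, 23, 22, 21, 20, 19, 18, 17, 16, 15, 14, 13, 12, 11, 10, 9, 8, 7, 6, 5, 4, 3, 2, 1, 0]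
  σinv := [71, 70, 69, 68, 67, 66, 65, 64, 63, 62, 61, 60, 59, 58, 57, 56, 55, 54, 53, 52, 51, 50, 49, 48, 47, 46, 45, 44, 43, 42, 41, 40, 39, 38, 37, 36, 35, 34, 33, 32, 31, 30, 29, 28, 27, 26, 25, 24, 23, 22, 21, 20, 19, 18, 17, 16, 15, 14, 13, 12, 11, 10, 9, 8, 7, 6, 5, 4, 3, 2, 1, 0]
  eps := [-1, -1, -1, -1, -1, -1, -1, -1, -1, -1, -1, -1, -1, -1, -1, -1, -1, -1, -1, -1, -1, -1, -1, -1, -1, -1, -1, -1, -1, -1, -1, -1, -1, -1, -1, -1, -1, -1, -1, -1, -1, -1, -1, -1, -1, -1, -1, -1, -1, -1, -1, -1, -1, -1, -1, -1, -1, -1, -1, -1, -1, -1, -1, -1, -1, -1, -1, -1, -1, -1, -1, -1]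
  π := [0, 1, 2, 3, 4, 5]
  πinv := [0, 1, 2, 3, 4, 5]
  delta := -1

theorem negE6_ok : negE6.Ok Cfsg.Lie.chevE6 := ⟨by decide +kernel⟩

end CfsgLib.Twisted
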